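import Groth.Agent.MagnetLift.Attr
import Groth.Agent.MagnetContract.FacePushout
import Mathlib

/-!
# Formal smoothness of face projections
-/

set_option autoImplicit false
set_option backward.isDefEq.respectTransparency false
set_option backward.isDefEq.respectTransparency.types false
set_option linter.style.haveILetI false
set_option maxHeartbeats 1000000
set_option synthInstance.maxHeartbeats 100000

universe u

open CategoryTheory CategoryTheory.Limits MonoidalCategory CartesianMonoidalCategory MonObj AlgebraicGeometry Opposite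
open Magnet

namespace Groth.Agent.MagnetLift

variable {S : Scheme.{u}} {M : Type} [AddCommGroup M]

/-- The structure morphism is equivariant for the trivial action on the base. -/
theorem isEquivariant_toUnit {X : Over S} (a : MonAct (AMonS S M) X) :
    MonAct.IsEquivariant a (MonAct.trivial (AMonS S M) (𝟙_ (Over S))) (toUnit X) := by
  rw [MonAct.isEquivariant_iff]
  intro W g x
  exact toUnit_unique _ _

theorem exists_face_lift {N F : AddSubmonoid M} (hF : IsFace N F) {X : Over S} [Smooth X.hom]
    (a : MonAct (AMonS S M) X) {T₀ T : Over S} [IsAffine T₀.left]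
    [IsAffine T.left] (v : T₀ ⟶ T) [IsClosedImmersion v.left]
    (hv : ∀ x y, v.left.appTop x = 0 → v.left.appTop y = 0 → x * y = 0) (x : (attr a N).obj (op T₀))
    (y : (attr a F).obj (op T)) (h : (attrFace a hF).app _ x = (attr a F).map v.op y) :
    ∃ l : (attr a N).obj (op T), (attr a N).map v.op l = x ∧ (attrFace a hF).app _ l = y := by
  haveI := MagnetEtale.isAffine_tensor F T₀
  haveI := MagnetEtale.isAffine_tensor F T
  haveI := MagnetEtale.isAffine_tensor N T₀
  haveI := MagnetEtale.isAffine_tensor N T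
  haveI := MagnetContract.flat_AMonS S M
  haveI : IsClosedImmersion (AMonS S F ◁ v).left :=
    MorphismProperty.of_isPullback (MagnetContract.isPullback_whiskerLeft (AMonS S F) v) ‹IsClosedImmersion v.left›
  haveI : IsClosedImmersion (AMonS S N ◁ v).left :=
    MorphismProperty.of_isPullback (MagnetContract.isPullback_whiskerLeft (AMonS S N) v) ‹IsClosedImmersion v.left›
  let aFT := (subAct S M F).prod (MonAct.trivial (AMonS S M) T)
  let aNT := (subAct S M N).prod (MonAct.trivial (AMonS S M) T)
  have hface : ∀ Q : Over S, MonAct.IsEquivariant ((subAct S M F).prod (MonAct.trivial (AMonS S M) Q))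
      ((subAct S M N).prod (MonAct.trivial (AMonS S M) Q)) (AMonS.faceMap S hF ▷ Q) := by
    intro Q
    have he := isEquivariant_faceMapS (M := M) S hF
    rw [MonAct.isEquivariant_iff] at he ⊢
    intro W g z
    rw [← lift_comp_fst_snd z, MonAct.lift_prod_act_assoc, lift_whiskerRight, lift_whiskerRight, MonAct.lift_prod_act]
    simp only [Category.assoc, he]
  obtain ⟨P, ν₁, ν₂, hP, aP, hPaff, hpin, hν₁, hν₂, huniv⟩ :=
    MagnetContract.exists_equivariant_pinch (AMonS S F ◁ v) (AMonS.faceMap S hF ▷ T₀)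
      _ aFT _ (isEquivariant_whisker F v) (hface T₀)
  haveI := hPaff
  have wπ : (AMonS S F ◁ v) ≫ (AMonS.faceMap S hF ▷ T) = (AMonS.faceMap S hF ▷ T₀) ≫ (AMonS S N ◁ v) :=
    (whisker_exchange _ _)
  let π : P ⟶ AMonS S N ⊗ T := hP.desc (AMonS.faceMap S hF ▷ T) (AMonS S N ◁ v) wπ
  have hπe : MonAct.IsEquivariant aP aNT π :=
    huniv _ aNT _ _ wπ (hface T) (isEquivariant_whisker N v)
  have hπ2 : ∀ r, (AMonS S N ◁ v).left.appTop r = ν₂.left.appTop (π.left.appTop r) := fun r => by
    rw [← CommRingCat.comp_apply, ← Scheme.Hom.comp_appTop, ← Over.comp_left, IsPushout.inr_desc]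
  have hπ1 : ∀ r, (AMonS.faceMap S hF ▷ T).left.appTop r = ν₁.left.appTop (π.left.appTop r) := fun r => by
    rw [← CommRingCat.comp_apply, ← Scheme.Hom.comp_appTop, ← Over.comp_left, IsPushout.inl_desc]
  have hinj : ∀ r r', ν₁.left.appTop r = ν₁.left.appTop r' → ν₂.left.appTop r = ν₂.left.appTop r' → r = r' :=
    (Pinch.secAt_of_isPinch hpin ⊤).1
  haveI : IsClosedImmersion π.left := by
    refine IsClosedImmersion.of_surjective_of_isAffine _ fun r => ?_
    obtain ⟨d, hd⟩ := (AMonS S N ◁ v).left.app_surjective _ (isAffineOpen_top _) (ν₂.left.appTop r)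
    change (AMonS S N ◁ v).left.appTop d = ν₂.left.appTop r at hd
    let c := ν₁.left.appTop r - (AMonS.faceMap S hF ▷ T).left.appTop d
    let ρ := AMonS.map S (AddSubmonoid.inclusion hF.le)
    have hc : (AMonS S F ◁ v).left.appTop c = 0 := by
      rw [map_sub, sub_eq_zero, ← CommRingCat.comp_apply, ← CommRingCat.comp_apply, ← Scheme.Hom.comp_appTop,
        ← Scheme.Hom.comp_appTop, ← Over.comp_left, ← Over.comp_left, hP.w, wπ, Over.comp_left, Over.comp_left,
        Scheme.Hom.comp_appTop, Scheme.Hom.comp_appTop, CommRingCat.comp_apply, CommRingCat.comp_apply, hd]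
    refine ⟨d + (ρ ▷ T).left.appTop c, hinj _ _ ?_ ?_⟩
    · rw [← hπ1, map_add, ← CommRingCat.comp_apply _ _ c, ← Scheme.Hom.comp_appTop, ← Over.comp_left,
        ← comp_whiskerRight, AMonS.faceMap_comp_map, id_whiskerRight, Over.id_left, Scheme.Hom.id_appTop,
        CommRingCat.id_apply, add_sub_cancel]
    · rw [← hπ2, map_add, hd, ← CommRingCat.comp_apply _ _ c, ← Scheme.Hom.comp_appTop, ← Over.comp_left,
        whisker_exchange, Over.comp_left, Scheme.Hom.comp_appTop, CommRingCat.comp_apply, hc, map_zero, add_zero]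
  have hker : ∀ p q, π.left.appTop p = 0 → π.left.appTop q = 0 → p * q = 0 := fun p q hp hq =>
    sq_zero_whisker N v hv p q (by rw [hπ2, hp, map_zero]) (by rw [hπ2, hq, map_zero])
  have ws : (AMonS S F ◁ v) ≫ y.1 = (AMonS.faceMap S hF ▷ T₀) ≫ x.1 := (congrArg Subtype.val h).symm
  let s : P ⟶ X := hP.desc y.1 x.1 ws
  have hse : MonAct.IsEquivariant aP a s := huniv _ a _ _ ws y.2 x.2
  haveI : Smooth (toUnit X).left := by
    rw [Over.toUnit_left]
    exact ‹Smooth X.hom›
  obtain ⟨l, hl, hl1, -⟩ := exists_equivariant_lift π hker aP aNT hπe a _ (toUnit X) (isEquivariant_toUnit a) s hse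
    (toUnit _) (isEquivariant_toUnit aNT) (toUnit_unique _ _)
  refine ⟨⟨l, hl⟩, Subtype.ext ?_, Subtype.ext ?_⟩
  · show (AMonS S N ◁ v) ≫ l = x.1
    rw [← hP.inr_desc (AMonS.faceMap S hF ▷ T) (AMonS S N ◁ v) wπ, Category.assoc, hl1, IsPushout.inr_desc]
  · show (AMonS.faceMap S hF ▷ T) ≫ l = y.1
    rw [← hP.inl_desc (AMonS.faceMap S hF ▷ T) (AMonS S N ◁ v) wπ, Category.assoc, hl1, IsPushout.inl_desc]

end Groth.Agent.MagnetLift
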