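import Groth.Agent.MagnetLift.Limit
import Groth.Agent.MagnetLift.Face
import Groth.Agent.InfLift.SmoothLift
import Groth.Agent.LimDesc.FPCancel
import Mathlib

/-!
# Smoothness of the maps of representing schemes of attractors
-/

set_option autoImplicit false
set_option backward.isDefEq.respectTransparency false
set_option backward.isDefEq.respectTransparency.types false
set_option linter.style.haveILetI false
set_option maxHeartbeats 1000000
set_option synthInstance.maxHeartbeats 100000

universe u

open CategoryTheory CategoryTheory.Limits MonoidalCategory CartesianMonoidalCategory MonObj AlgebraicGeometry Opposite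
open Magnet

namespace Groth.Agent.MagnetLift

variable {S : Scheme.{u}} {M : Type} [AddCommGroup M]

theorem smooth_of_lifts {P Q : (Over S)ᵒᵖ ⥤ Type u} (ν : P ⟶ Q) {ZP ZQ : Over S} (eP : P.RepresentableBy ZP)
    (eQ : Q.RepresentableBy ZQ) (j : ZP ⟶ ZQ)
    (hj : ∀ (T : Over S) (z : T ⟶ ZP), eQ.homEquiv (z ≫ j) = ν.app (op T) (eP.homEquiv z))
    [LocallyOfFinitePresentation j.left]
    (h : ∀ (A : Type u) [CommRing A] (I : Ideal A), I ^ 2 = ⊥ → ∀ (str : Spec (CommRingCat.of A) ⟶ S)
      (x : P.obj (op (Over.mk (Spec.map (CommRingCat.ofHom (Ideal.Quotient.mk I)) ≫ str))))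
      (y : Q.obj (op (Over.mk str))), ν.app _ x = Q.map (quotHom I str).op y →
      ∃ l, P.map (quotHom I str).op l = x ∧ ν.app _ l = y) : Smooth j.left := by
  refine InfLift.smooth_of_isFormallySmoothHom _ fun A _ I hI a b hab => ?_
  let str := b ≫ ZQ.hom
  let za : Over.mk (Spec.map (CommRingCat.ofHom (Ideal.Quotient.mk I)) ≫ str) ⟶ ZP := Over.homMk a (by
    show a ≫ ZP.hom = Spec.map _ ≫ b ≫ ZQ.hom
    rw [← Over.w j, ← Category.assoc, ← hab, Category.assoc])
  let zb : Over.mk str ⟶ ZQ := Over.homMk b rfl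
  obtain ⟨l, hl1, hl2⟩ := h A I hI str (eP.homEquiv za) (eQ.homEquiv zb) (by
    rw [← hj, ← eQ.homEquiv_comp]
    exact congrArg eQ.homEquiv (Over.OverMorphism.ext hab.symm))
  have e1 : quotHom I str ≫ eP.homEquiv.symm l = za := by
    apply eP.homEquiv.injective
    rw [eP.homEquiv_comp, Equiv.apply_symm_apply, hl1]
  have e2 : eP.homEquiv.symm l ≫ j = zb := by
    apply eQ.homEquiv.injective
    rw [hj, Equiv.apply_symm_apply, hl2]
  exact ⟨(eP.homEquiv.symm l).left, congrArg CommaMorphism.left e1, congrArg CommaMorphism.left e2⟩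

theorem spec_facts {A : Type u} [CommRing A] (I : Ideal A) (str : Spec (CommRingCat.of A) ⟶ S) :
    IsAffine (Over.mk (Spec.map (CommRingCat.ofHom (Ideal.Quotient.mk I)) ≫ str)).left ∧ IsAffine (Over.mk str).left ∧
      IsClosedImmersion (quotHom I str).left :=
  ⟨inferInstanceAs (IsAffine (Spec _)), inferInstanceAs (IsAffine (Spec _)),
    IsClosedImmersion.spec_of_surjective _ Ideal.Quotient.mk_surjective⟩

theorem smooth_attr_postcomp {N : AddSubmonoid M} {X Y : Over S} (aX : MonAct (AMonS S M) X)
    (aY : MonAct (AMonS S M) Y) (f : X ⟶ Y) (hf : MonAct.IsEquivariant aX aY f) [Smooth f.left]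
    {ZX ZY : Over S} (eX : (attr aX N).RepresentableBy ZX) (eY : (attr aY N).RepresentableBy ZY) (j : ZX ⟶ ZY)
    (hj : ∀ (T : Over S) (z : T ⟶ ZX),
      eY.homEquiv (z ≫ j) = (MonAct.eqvHom.postcomp (subAct S M N) f hf).app (op T) (eX.homEquiv z)) :
    Smooth j.left := by
  haveI := locallyOfFinitePresentation_attr aX aY f hf eX eY j hj
  refine smooth_of_lifts _ eX eY j hj fun A _ I hI str x y h => ?_
  obtain ⟨h1, h2, h3⟩ := spec_facts I str
  exact exists_attr_lift aX aY f hf (quotHom I str) (sq_zero_quotHom I hI str) x y h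

theorem lfp_attr_hom {N : AddSubmonoid M} {X : Over S} (a : MonAct (AMonS S M) X) [Smooth X.hom] {Z : Over S}
    (e : (attr a N).RepresentableBy Z) : LocallyOfFinitePresentation Z.hom := by
  haveI : Smooth (toUnit X).left := by
    rw [Over.toUnit_left]
    exact ‹Smooth X.hom›
  let e1 : (attr (MonAct.trivial (AMonS S M) (𝟙_ (Over S))) N).RepresentableBy (𝟙_ (Over S)) :=
    { homEquiv := fun {T} =>
        { toFun := fun _ => ⟨toUnit _, isEquivariant_toUnit _⟩
          invFun := fun _ => toUnit T
          left_inv := fun _ => toUnit_unique _ _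
          right_inv := fun _ => Subtype.ext (toUnit_unique _ _) }
      homEquiv_comp := fun _ _ => Subtype.ext (toUnit_unique _ _) }
  have hZ := locallyOfFinitePresentation_attr a _ (toUnit X) (isEquivariant_toUnit a) e e1 (toUnit Z) fun T z =>
    Subtype.ext (toUnit_unique _ _)
  rwa [Over.toUnit_left] at hZ

theorem smooth_attr_face {N F : AddSubmonoid M} (hF : IsFace N F) {X : Over S} [Smooth X.hom]
    (a : MonAct (AMonS S M) X) {ZN ZF : Over S} (eN : (attr a N).RepresentableBy ZN) (eF : (attr a F).RepresentableBy ZF)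
    (j : ZN ⟶ ZF) (hj : ∀ (T : Over S) (z : T ⟶ ZN), eF.homEquiv (z ≫ j) = (attrFace a hF).app (op T) (eN.homEquiv z)) :
    Smooth j.left := by
  haveI := lfp_attr_hom a eF
  haveI : LocallyOfFinitePresentation (j.left ≫ ZF.hom) := by
    rw [Over.w]
    exact lfp_attr_hom a eN
  haveI : LocallyOfFinitePresentation j.left :=
    LimDesc.lfp_of_comp j.left ZF.hom
  refine smooth_of_lifts _ eN eF j hj fun A _ I hI str x y h => ?_
  obtain ⟨h1, h2, h3⟩ := spec_facts I str
  exact exists_face_lift hF a (quotHom I str) (sq_zero_quotHom I hI str) x y h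

end Groth.Agent.MagnetLift
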