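import Groth.Agent.MagnetLift.Equivariant
import Mathlib

/-!
# Formal smoothness of maps of attractors
-/

set_option autoImplicit false
set_option backward.isDefEq.respectTransparency false
set_option backward.isDefEq.respectTransparency.types false
set_option linter.style.haveILetI false
set_option maxHeartbeats 1000000
set_option synthInstance.maxHeartbeats 100000

universe u

open CategoryTheory CategoryTheory.Limits MonoidalCategory CartesianMonoidalCategory MonObj AlgebraicGeometry Opposite
open Magnet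

namespace Groth.Agent.MagnetLift

variable {S : Scheme.{u}} {M : Type} [AddCommGroup M]

/-- The morphism of a quotient of a base ring. -/
noncomputable abbrev quotHom {A : Type u} [CommRing A] (I : Ideal A) (str : Spec (CommRingCat.of A) ⟶ S) :
    Over.mk (Spec.map (CommRingCat.ofHom (Ideal.Quotient.mk I)) ≫ str) ⟶ Over.mk str :=
  Over.homMk (Spec.map (CommRingCat.ofHom (Ideal.Quotient.mk I))) rfl

theorem sq_zero_quotHom {A : Type u} [CommRing A] (I : Ideal A) (hI : I ^ 2 = ⊥) (str : Spec (CommRingCat.of A) ⟶ S) :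
    ∀ x y, (quotHom I str).left.appTop x = 0 → (quotHom I str).left.appTop y = 0 → x * y = 0 := by
  have key : ∀ x, (quotHom I str).left.appTop x = 0 → (Scheme.ΓSpecIso (CommRingCat.of A)).hom x ∈ I := by
    intro x hx
    rw [← Ideal.Quotient.eq_zero_iff_mem]
    show ((Scheme.ΓSpecIso (CommRingCat.of A)).hom ≫ CommRingCat.ofHom (Ideal.Quotient.mk I)) x = 0
    rw [← Scheme.ΓSpecIso_naturality]
    show (Scheme.ΓSpecIso _).hom ((quotHom I str).left.appTop x) = 0
    rw [hx, map_zero]
  intro x y hx hy
  apply (Scheme.ΓSpecIso (CommRingCat.of A)).commRingCatIsoToRingEquiv.injective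
  show (Scheme.ΓSpecIso _).hom.hom (x * y) = (Scheme.ΓSpecIso _).hom.hom 0
  rw [map_mul, map_zero]
  have h := Ideal.mul_mem_mul (key x hx) (key y hy)
  rw [← pow_two, hI] at h
  exact Ideal.mem_bot.1 h

theorem isEquivariant_whisker (N : AddSubmonoid M) {T₀ T : Over S} (v : T₀ ⟶ T) :
    MonAct.IsEquivariant ((subAct S M N).prod (MonAct.trivial (AMonS S M) T₀))
      ((subAct S M N).prod (MonAct.trivial (AMonS S M) T)) (AMonS S N ◁ v) := by
  rw [MonAct.isEquivariant_iff]
  intro W g z
  rw [← lift_comp_fst_snd z, MonAct.lift_prod_act_assoc, lift_whiskerLeft, lift_whiskerLeft, MonAct.lift_prod_act,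
    MonAct.lift_trivial_act, MonAct.lift_trivial_act]

theorem exists_attr_lift {N : AddSubmonoid M} {X Y : Over S} (aX : MonAct (AMonS S M) X) (aY : MonAct (AMonS S M) Y)
    (f : X ⟶ Y) (hf : MonAct.IsEquivariant aX aY f) [Smooth f.left] {T₀ T : Over S} [IsAffine T₀.left]
    [IsAffine T.left] (v : T₀ ⟶ T) [IsClosedImmersion v.left]
    (hv : ∀ x y, v.left.appTop x = 0 → v.left.appTop y = 0 → x * y = 0) (x : (attr aX N).obj (op T₀))
    (y : (attr aY N).obj (op T))
    (h : (MonAct.eqvHom.postcomp (subAct S M N) f hf).app _ x = (attr aY N).map v.op y) :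
    ∃ l : (attr aX N).obj (op T), (attr aX N).map v.op l = x ∧ (MonAct.eqvHom.postcomp (subAct S M N) f hf).app _ l = y := by
  haveI := MagnetEtale.isAffine_tensor N T₀
  haveI := MagnetEtale.isAffine_tensor N T
  haveI : IsClosedImmersion (AMonS S N ◁ v).left :=
    MorphismProperty.of_isPullback (MagnetContract.isPullback_whiskerLeft (AMonS S N) v) ‹IsClosedImmersion v.left›
  obtain ⟨l, hl, hl1, hl2⟩ := exists_equivariant_lift (AMonS S N ◁ v) (sq_zero_whisker N v hv) _ _
    (isEquivariant_whisker N v) aX aY f hf x.1 x.2 y.1 y.2 (congrArg Subtype.val h).symm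
  exact ⟨⟨l, hl⟩, Subtype.ext hl1, Subtype.ext hl2⟩

end Groth.Agent.MagnetLift
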