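import Groth.Agent.MagnetContract.Pushout
import Groth.Agent.MagnetEtale.Lift
import Mathlib

/-!
# Averaging lifts over a diagonalizable group
-/

set_option autoImplicit false
set_option backward.isDefEq.respectTransparency false
set_option backward.isDefEq.respectTransparency.types false
set_option linter.style.haveILetI false
set_option linter.unusedSimpArgs false
set_option maxHeartbeats 1000000
set_option synthInstance.maxHeartbeats 100000

universe u

open CategoryTheory CategoryTheory.Limits MonoidalCategory CartesianMonoidalCategory MonObj AlgebraicGeometry Opposite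
open Magnet

namespace Groth.Agent.MagnetLift

open Groth.Agent.MagnetPts (co co_comp co_ext co_map co_mul)
open Groth.Agent.MagnetEtale (coord coord_mul cst E eq_sum coord_sum_mul coord_natural isAffine_tensor)

variable {S : Scheme.{u}} {M : Type} [AddCommGroup M]

theorem E_one (T : Over S) : E (P := M) T (1 : Multiplicative M) = 1 := map_one _

theorem coord_cst (T : Over S) [IsAffine T.left] (r : Γ(T.left, ⊤)) :
    coord (P := M) T (cst M T r) 1 = r := by
  rw [← _root_.mul_one (cst M T r), ← E_one T, coord_mul, Finsupp.single_eq_same]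

/-- The data used to average: the pinching of `G × T` along `G × T₀ → T₀` and its retraction. -/
structure Data {T₀ T : Over S} [IsAffine T.left] (i : T₀ ⟶ T) where
  /-- the pinching -/
  P : Over S
  aff : IsAffine P.left
  /-- the map from the group times the thickening -/
  ν₁ : AMonS S M ⊗ T ⟶ P
  /-- the map from the closed subscheme -/
  ν₂ : T₀ ⟶ P
  po : IsPushout (AMonS S M ◁ i) (snd (AMonS S M) T₀) ν₁ ν₂
  /-- the retraction -/
  ret : T ⟶ P
  hret : ∀ r, ret.left.appTop r = coord T (ν₁.left.appTop r) 1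

theorem nonempty_data {T₀ T : Over S} [IsAffine T₀.left] [IsAffine T.left] (i : T₀ ⟶ T) [IsClosedImmersion i.left]
    (hi : ∀ x y, i.left.appTop x = 0 → i.left.appTop y = 0 → x * y = 0) : Nonempty (Data (M := M) i) := by
  classical
  haveI := isAffine_tensor M T
  haveI := isAffine_tensor M T₀
  haveI : IsClosedImmersion (AMonS S M ◁ i).left :=
    MorphismProperty.of_isPullback (MagnetContract.isPullback_whiskerLeft (AMonS S M) i) ‹IsClosedImmersion i.left›
  obtain ⟨P, ν₁, ν₂, hP, h⟩ := MagnetContract.exists_pinch (AMonS S M ◁ i) (snd (AMonS S M) T₀)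
  haveI := hP
  have w : (AMonS S M ◁ i) ≫ ν₁ = snd (AMonS S M) T₀ ≫ ν₂ := Over.OverMorphism.ext (Pinch.w_of_isPinch h)
  have po : IsPushout (AMonS S M ◁ i) (snd (AMonS S M) T₀) ν₁ ν₂ :=
    IsPushout.of_map (Over.forget S) w (Pinch.isPushout_of_isPinch h)
  have hcomp : ∀ r (m : Multiplicative M), i.left.appTop (coord T (ν₁.left.appTop r) m) =
      Finsupp.single (1 : Multiplicative M) (ν₂.left.appTop r) m := by
    intro r m
    rw [← coord_natural, ← coord_mul, E_one, _root_.mul_one, ← CommRingCat.comp_apply, ← Scheme.Hom.comp_appTop,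
      ← Over.comp_left, w, Over.comp_left, Scheme.Hom.comp_appTop, CommRingCat.comp_apply]
  let θ : Γ(P.left, ⊤) → Γ(T.left, ⊤) := fun r => coord T (ν₁.left.appTop r) 1
  have hdec : ∀ r, ∃ k : Multiplicative M →₀ Γ(T.left, ⊤), (∀ m, i.left.appTop (k m) = 0) ∧ k 1 = 0 ∧
      ν₁.left.appTop r = cst M T (θ r) + ∑ m ∈ k.support, cst M T (k m) * E T m := by
    intro r
    refine ⟨(coord T (ν₁.left.appTop r)).erase 1, fun m => ?_, Finsupp.erase_same, ?_⟩
    · by_cases hm : m = 1
      · rw [hm, Finsupp.erase_same, map_zero]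
      · rw [Finsupp.erase_ne hm, hcomp, Finsupp.single_apply, if_neg (Ne.symm hm)]
    · apply (coord T).injective
      rw [map_add, coord_sum_mul]
      conv_rhs => rw [← _root_.mul_one (cst M T (θ r)), ← E_one T, coord_mul]
      exact (Finsupp.single_add_erase 1 (coord T (ν₁.left.appTop r))).symm.trans
        (congrArg (_ + ·) (Finsupp.sum_single _).symm)
  have hmul : ∀ r r', θ (r * r') = θ r * θ r' := by
    intro r r'
    obtain ⟨k, hk, hk1, e⟩ := hdec r
    obtain ⟨k', hk', hk1', e'⟩ := hdec r'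
    show coord T (ν₁.left.appTop (r * r')) 1 = _
    rw [map_mul, e, e']
    have hz : (∑ m ∈ k.support, cst M T (k m) * E T m) * (∑ m ∈ k'.support, cst M T (k' m) * E T m) = 0 := by
      rw [Finset.sum_mul_sum]
      refine Finset.sum_eq_zero fun m _ => Finset.sum_eq_zero fun m' _ => ?_
      rw [show ∀ a b c d : Γ((AMonS S M ⊗ T).left, ⊤), a * b * (c * d) = a * c * (b * d) from fun a b c d => by ring,
        ← map_mul, hi _ _ (hk m) (hk' m'), map_zero, zero_mul]
    rw [add_mul, mul_add, mul_add, hz, add_zero, Finset.mul_sum, Finset.sum_mul, map_add, map_add]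
    simp only [← _root_.mul_assoc, ← map_mul]
    rw [coord_sum_mul]
    have e2 : ∀ m, cst M T (k m) * E T m * cst M T (θ r') = cst M T (k m * θ r') * E T m := fun m => by
      rw [map_mul]; ring
    rw [Finset.sum_congr rfl fun m _ => e2 m, coord_sum_mul, Finsupp.add_apply, Finsupp.add_apply,
      Finsupp.finsetSum_apply, Finsupp.finsetSum_apply, coord_cst,
      Finset.sum_eq_zero fun m _ => ?_, Finset.sum_eq_zero fun m _ => ?_, add_zero, add_zero]
    · rw [Finsupp.single_apply]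
      split_ifs with hm
      · rw [hm, hk1, zero_mul]
      · rfl
    · rw [Finsupp.single_apply]
      split_ifs with hm
      · rw [hm, hk1', mul_zero]
      · rfl
  let θ' : Γ(P.left, ⊤) →+* Γ(T.left, ⊤) :=
    { toFun := θ
      map_one' := by
        show coord T (ν₁.left.appTop.hom 1) 1 = 1
        rw [map_one ν₁.left.appTop.hom, ← map_one (cst M T), coord_cst]
      map_mul' := hmul
      map_zero' := by show coord T (ν₁.left.appTop 0) 1 = 0; rw [map_zero, map_zero, Finsupp.zero_apply]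
      map_add' := fun a b => by show coord T (ν₁.left.appTop (a + b)) 1 = _; rw [map_add, map_add, Finsupp.add_apply] }
  let ret₀ : T.left ⟶ P.left := T.left.isoSpec.hom ≫ Spec.map (CommRingCat.ofHom θ') ≫ P.left.isoSpec.inv
  have hret₀ : ret₀.appTop = CommRingCat.ofHom θ' := by
    apply Spec.map_injective
    rw [← cancel_mono P.left.isoSpec.inv, Scheme.isoSpec_inv_naturality]
    simp [ret₀]
  let π : P ⟶ T := po.desc (snd _ _) i (whiskerLeft_snd _ _)
  have hπ : ret₀ ≫ π.left = 𝟙 _ := by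
    refine ext_of_isAffine ?_
    rw [Scheme.Hom.comp_appTop, hret₀, Scheme.Hom.id_appTop]
    refine CommRingCat.hom_ext (RingHom.ext fun r => ?_)
    show coord T ((π.left.appTop ≫ ν₁.left.appTop) r) 1 = r
    rw [← Scheme.Hom.comp_appTop, ← Over.comp_left, IsPushout.inl_desc]
    exact coord_cst T r
  let ret : T ⟶ P := Over.homMk ret₀ (by rw [← Over.w π, reassoc_of% hπ])
  exact ⟨⟨P, hP, ν₁, ν₂, po, ret, fun r => ConcreteCategory.congr_hom hret₀ r⟩⟩

variable {T₀ T : Over S} [IsAffine T₀.left] [IsAffine T.left] {i : T₀ ⟶ T} {X : Over S}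

/-- The average of a family of maps over the group which is constant on the closed subscheme. -/
noncomputable def Data.avg (D : Data (M := M) i) (h : AMonS S M ⊗ T ⟶ X) (x₀ : T₀ ⟶ X)
    (hc : (AMonS S M ◁ i) ≫ h = snd (AMonS S M) T₀ ≫ x₀) : T ⟶ X :=
  D.ret ≫ D.po.desc h x₀ hc

theorem Data.avg_comp (D : Data (M := M) i) {Y : Over S} (φ : X ⟶ Y) (h : AMonS S M ⊗ T ⟶ X) (x₀ : T₀ ⟶ X)
    (hc : (AMonS S M ◁ i) ≫ h = snd (AMonS S M) T₀ ≫ x₀) (h' : AMonS S M ⊗ T ⟶ Y) (x₀' : T₀ ⟶ Y)
    (hc' : (AMonS S M ◁ i) ≫ h' = snd (AMonS S M) T₀ ≫ x₀') (e : h ≫ φ = h') (e₀ : x₀ ≫ φ = x₀') :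
    D.avg h x₀ hc ≫ φ = D.avg h' x₀' hc' := by
  rw [Data.avg, Data.avg, Category.assoc]
  refine congrArg (D.ret ≫ ·) ?_
  apply D.po.hom_ext
  · rw [IsPushout.inl_desc_assoc, IsPushout.inl_desc, e]
  · rw [IsPushout.inr_desc_assoc, IsPushout.inr_desc, e₀]

theorem Data.restrict_ret (D : Data (M := M) i) : i ≫ D.ret = D.ν₂ := by
  haveI := D.aff
  refine Over.OverMorphism.ext (ext_of_isAffine ?_)
  refine CommRingCat.hom_ext (RingHom.ext fun r => ?_)
  rw [Over.comp_left, Scheme.Hom.comp_appTop]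
  show i.left.appTop (D.ret.left.appTop r) = _
  rw [D.hret, ← coord_natural, ← CommRingCat.comp_apply, ← Scheme.Hom.comp_appTop, ← Over.comp_left, D.po.w,
    Over.comp_left, Scheme.Hom.comp_appTop, CommRingCat.comp_apply]
  exact coord_cst T₀ _

theorem Data.restrict_avg (D : Data (M := M) i) (h : AMonS S M ⊗ T ⟶ X) (x₀ : T₀ ⟶ X)
    (hc : (AMonS S M ◁ i) ≫ h = snd (AMonS S M) T₀ ≫ x₀) : i ≫ D.avg h x₀ hc = x₀ := by
  rw [Data.avg, ← Category.assoc, D.restrict_ret, IsPushout.inr_desc]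

theorem Data.avg_snd (D : Data (M := M) i) (x : T ⟶ X) (hc : (AMonS S M ◁ i) ≫ snd _ _ ≫ x = snd _ T₀ ≫ i ≫ x) :
    D.avg (snd _ _ ≫ x) (i ≫ x) hc = x := by
  let π : D.P ⟶ T := D.po.desc (snd _ _) i (whiskerLeft_snd _ _)
  have hπ : D.ret ≫ π = 𝟙 T := by
    refine Over.OverMorphism.ext (ext_of_isAffine ?_)
    rw [Over.comp_left, Scheme.Hom.comp_appTop, Over.id_left, Scheme.Hom.id_appTop]
    refine CommRingCat.hom_ext (RingHom.ext fun r => ?_)
    show D.ret.left.appTop (π.left.appTop r) = r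
    rw [D.hret, ← CommRingCat.comp_apply, ← Scheme.Hom.comp_appTop, ← Over.comp_left, IsPushout.inl_desc]
    exact coord_cst T r
  rw [Data.avg, show D.po.desc (snd _ _ ≫ x) (i ≫ x) hc = π ≫ x from D.po.hom_ext
    (by rw [IsPushout.inl_desc, IsPushout.inl_desc_assoc]) (by rw [IsPushout.inr_desc, IsPushout.inr_desc_assoc]),
    reassoc_of% hπ]

theorem Data.avg_natural (D : Data (M := M) i) {T₀' T' : Over S} [IsAffine T₀'.left] [IsAffine T'.left]
    {i' : T₀' ⟶ T'} (D' : Data (M := M) i') (v₀ : T₀' ⟶ T₀) (v : T' ⟶ T) (sq : i' ≫ v = v₀ ≫ i)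
    (h : AMonS S M ⊗ T ⟶ X) (x₀ : T₀ ⟶ X) (hc : (AMonS S M ◁ i) ≫ h = snd (AMonS S M) T₀ ≫ x₀)
    (h' : AMonS S M ⊗ T' ⟶ X) (x₀' : T₀' ⟶ X) (hc' : (AMonS S M ◁ i') ≫ h' = snd (AMonS S M) T₀' ≫ x₀')
    (e : (AMonS S M ◁ v) ≫ h = h') (e₀ : v₀ ≫ x₀ = x₀') :
    v ≫ D.avg h x₀ hc = D'.avg h' x₀' hc' := by
  haveI := D.aff
  let pv : D'.P ⟶ D.P := D'.po.desc ((AMonS S M ◁ v) ≫ D.ν₁) (v₀ ≫ D.ν₂) (by
    rw [← whiskerLeft_comp_assoc, sq, whiskerLeft_comp_assoc, D.po.w, whiskerLeft_snd_assoc])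
  have hpv : D'.ret ≫ pv = v ≫ D.ret := by
    refine Over.OverMorphism.ext (ext_of_isAffine ?_)
    rw [Over.comp_left, Over.comp_left, Scheme.Hom.comp_appTop, Scheme.Hom.comp_appTop]
    refine CommRingCat.hom_ext (RingHom.ext fun r => ?_)
    show D'.ret.left.appTop (pv.left.appTop r) = v.left.appTop (D.ret.left.appTop r)
    rw [D'.hret, D.hret, ← coord_natural, ← CommRingCat.comp_apply, ← Scheme.Hom.comp_appTop, ← Over.comp_left,
      IsPushout.inl_desc, Over.comp_left, Scheme.Hom.comp_appTop, CommRingCat.comp_apply]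
  rw [Data.avg, Data.avg, ← Category.assoc, ← hpv, Category.assoc]
  refine congrArg (D'.ret ≫ ·) ?_
  apply D'.po.hom_ext
  · rw [IsPushout.inl_desc_assoc, Category.assoc, IsPushout.inl_desc, IsPushout.inl_desc, e]
  · rw [IsPushout.inr_desc_assoc, Category.assoc, IsPushout.inr_desc, IsPushout.inr_desc, e₀]

theorem Data.avg_transl (D : Data (M := M) i) (gam : T ⟶ AMonS S M) (h : AMonS S M ⊗ T ⟶ X) (x₀ : T₀ ⟶ X)
    (hc : (AMonS S M ◁ i) ≫ h = snd (AMonS S M) T₀ ≫ x₀) (h' : AMonS S M ⊗ T ⟶ X)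
    (hc' : (AMonS S M ◁ i) ≫ h' = snd (AMonS S M) T₀ ≫ x₀)
    (e : lift (fst _ _ * (snd _ _ ≫ gam)) (snd _ _) ≫ h = h') : D.avg h x₀ hc = D.avg h' x₀ hc' := by
  haveI := D.aff
  let tr : AMonS S M ⊗ T ⟶ AMonS S M ⊗ T := lift (fst _ _ * (snd _ _ ≫ gam)) (snd _ _)
  let pt : D.P ⟶ D.P := D.po.desc (tr ≫ D.ν₁) D.ν₂ (by
    have : (AMonS S M ◁ i) ≫ tr = lift (fst _ _ * (snd _ _ ≫ i ≫ gam)) (snd _ _) ≫ (AMonS S M ◁ i) := by
      simp only [tr, comp_lift, MonObj.comp_mul, lift_whiskerLeft, whiskerLeft_fst, whiskerLeft_snd,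
        whiskerLeft_snd_assoc, Category.assoc]
    rw [reassoc_of% this, D.po.w, lift_snd_assoc])
  have hpt : D.ret ≫ pt = D.ret := by
    refine Over.OverMorphism.ext (ext_of_isAffine ?_)
    rw [Over.comp_left, Scheme.Hom.comp_appTop]
    refine CommRingCat.hom_ext (RingHom.ext fun r => ?_)
    show D.ret.left.appTop (pt.left.appTop r) = D.ret.left.appTop r
    rw [D.hret, D.hret, ← CommRingCat.comp_apply, ← Scheme.Hom.comp_appTop, ← Over.comp_left, IsPushout.inl_desc,
      Over.comp_left, Scheme.Hom.comp_appTop, CommRingCat.comp_apply]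
    classical
    set z := D.ν₁.left.appTop r
    have hE : ∀ m : Multiplicative M, tr.left.appTop (E T m) = cst M T (co gam m) * E T m := by
      intro m
      rw [E, ← co_comp, lift_fst, co_mul, co_comp, mul_comm]
    have hcs : ∀ a, tr.left.appTop (cst M T a) = cst M T a := by
      intro a
      show ((snd (AMonS S M) T).left.appTop ≫ tr.left.appTop) a = _
      rw [← Scheme.Hom.comp_appTop, ← Over.comp_left, lift_snd]
    conv_lhs => rw [eq_sum z, map_sum]
    simp only [map_mul, hE, hcs, ← _root_.mul_assoc]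
    simp only [← map_mul]
    rw [coord_sum_mul, Finsupp.finsetSum_apply, Finset.sum_eq_single (1 : Multiplicative M)]
    · rw [Finsupp.single_eq_same, map_one (co gam), _root_.mul_one]
    · intro m _ hm
      rw [Finsupp.single_apply, if_neg hm]
    · intro hm
      rw [Finsupp.notMem_support_iff.1 hm, zero_mul, Finsupp.single_zero, Finsupp.zero_apply]
  rw [Data.avg, Data.avg]
  conv_lhs => rw [← hpt, Category.assoc]
  refine congrArg (D.ret ≫ ·) ?_
  apply D.po.hom_ext
  · rw [IsPushout.inl_desc_assoc, Category.assoc, IsPushout.inl_desc, IsPushout.inl_desc]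
    exact e
  · rw [IsPushout.inr_desc_assoc, IsPushout.inr_desc, IsPushout.inr_desc]

end Groth.Agent.MagnetLift
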