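import Groth.Agent.MagnetLift.Avg
import Groth.Agent.InfLift.SchemeSmallExt
import Mathlib

/-!
# Equivariant lifts along square-zero thickenings
-/

set_option autoImplicit false
set_option backward.isDefEq.respectTransparency false
set_option backward.isDefEq.respectTransparency.types false
set_option linter.style.haveILetI false
set_option linter.unusedSimpArgs false
set_option maxHeartbeats 1000000
set_option synthInstance.maxHeartbeats 100000

universe u

open CategoryTheory CategoryTheory.Limits MonoidalCategory CartesianMonoidalCategory MonObj AlgebraicGeometry Opposite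
open Magnet

namespace Groth.Agent.MagnetLift

open Groth.Agent.MagnetPts (co co_comp co_ext co_map co_mul)
open Groth.Agent.MagnetEtale (coord coord_mul cst E eq_sum coord_natural isAffine_tensor)

variable {S : Scheme.{u}}

/-- A square-zero thickening stays one after multiplication by a diagonalizable monoid. -/
theorem sq_zero_whisker (P : Type) [AddCommMonoid P] {T₀ T : Over S} [IsAffine T₀.left] [IsAffine T.left] (i : T₀ ⟶ T)
    (hi : ∀ x y, i.left.appTop x = 0 → i.left.appTop y = 0 → x * y = 0) :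
    ∀ x y, (AMonS S P ◁ i).left.appTop x = 0 → (AMonS S P ◁ i).left.appTop y = 0 → x * y = 0 := by
  intro x y hx hy
  rw [eq_sum x, eq_sum y, Finset.sum_mul_sum]
  refine Finset.sum_eq_zero fun m _ => Finset.sum_eq_zero fun n _ => ?_
  have h1 : i.left.appTop (coord T x m) = 0 := by rw [← coord_natural, hx, map_zero, Finsupp.zero_apply]
  have h2 : i.left.appTop (coord T y n) = 0 := by rw [← coord_natural, hy, map_zero, Finsupp.zero_apply]
  rw [show ∀ a b c d : Γ((AMonS S P ⊗ T).left, ⊤), a * b * (c * d) = a * c * (b * d) from fun a b c d => by ring,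
    ← map_mul, hi _ _ h1 h2, map_zero, zero_mul]

theorem exists_lift_of_smooth {T₀ T X Y : Over S} [IsAffine T₀.left] [IsAffine T.left] (i : T₀ ⟶ T)
    [IsClosedImmersion i.left] (hi : ∀ x y, i.left.appTop x = 0 → i.left.appTop y = 0 → x * y = 0) (f : X ⟶ Y)
    [Smooth f.left] (s : T₀ ⟶ X) (y : T ⟶ Y) (hsy : i ≫ y = s ≫ f) : ∃ l : T ⟶ X, i ≫ l = s ∧ l ≫ f = y := by
  have hsq : RingHom.ker i.left.appTop.hom ^ 2 = ⊥ := by
    rw [pow_two, ← le_bot_iff, Ideal.mul_le]
    exact fun a ha b hb => Ideal.mem_bot.2 (hi a b ha hb)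
  obtain ⟨g, hg1, hg2⟩ := InfLift.exists_lift_of_smooth f.left i.left.appTop.hom
    (i.left.app_surjective _ (isAffineOpen_top _)) hsq (T₀.left.isoSpec.inv ≫ s.left) (T.left.isoSpec.inv ≫ y.left) (by
      rw [CommRingCat.ofHom_hom, ← Category.assoc, Scheme.isoSpec_inv_naturality, Category.assoc, Category.assoc,
        ← Over.comp_left, ← Over.comp_left, hsy])
  let l : T ⟶ X := Over.homMk (T.left.isoSpec.hom ≫ g) (by
    rw [Category.assoc, ← Over.w f, reassoc_of% hg2, Iso.hom_inv_id_assoc, Over.w])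
  refine ⟨l, Over.OverMorphism.ext ?_, Over.OverMorphism.ext ?_⟩
  · show i.left ≫ T.left.isoSpec.hom ≫ g = s.left
    rw [← Scheme.isoSpec_hom_naturality_assoc]
    rw [CommRingCat.ofHom_hom] at hg1
    rw [hg1, Iso.hom_inv_id_assoc]
  · show (T.left.isoSpec.hom ≫ g) ≫ f.left = y.left
    rw [Category.assoc, hg2, Iso.hom_inv_id_assoc]

variable {M : Type} [AddCommGroup M]

/-- Inversion on the torus. -/
noncomputable def negM (S : Scheme.{u}) (M : Type) [AddCommGroup M] : AMonS S M ⟶ AMonS S M :=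
  AMonS.map S (-AddMonoidHom.id M)

theorem negM_mul {W : Over S} (g : W ⟶ AMonS S M) : (g ≫ negM S M) * g = 1 := by
  refine co_ext fun m' => ?_
  obtain ⟨m, rfl⟩ : ∃ m, Multiplicative.ofAdd m = m' := ⟨m'.toAdd, rfl⟩
  rw [co_mul, negM, co_map, toAdd_ofAdd, ← map_mul, ← ofAdd_add,
    show (-AddMonoidHom.id M) m + m = 0 from neg_add_cancel _, ofAdd_zero, map_one, Hom.one_def, MagnetPts.co_one]

theorem mul_negM {W : Over S} (g k : W ⟶ AMonS S M) : k * ((g * k) ≫ negM S M) = g ≫ negM S M := by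
  refine co_ext fun m' => ?_
  obtain ⟨m, rfl⟩ : ∃ m, Multiplicative.ofAdd m = m' := ⟨m'.toAdd, rfl⟩
  rw [co_mul, negM, co_map, co_map, co_mul, toAdd_ofAdd, mul_left_comm, ← map_mul (co k), ← ofAdd_add,
    show m + (-AddMonoidHom.id M) m = 0 from add_neg_cancel _, ofAdd_zero, map_one, _root_.mul_one]

/-- Equivariant lifts exist along equivariant square-zero thickenings of affine schemes. -/
theorem exists_equivariant_lift {T₀ T X Y : Over S} [IsAffine T₀.left] [IsAffine T.left] (i : T₀ ⟶ T)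
    [IsClosedImmersion i.left] (hi : ∀ x y, i.left.appTop x = 0 → i.left.appTop y = 0 → x * y = 0)
    (a₀ : MonAct (AMonS S M) T₀) (a : MonAct (AMonS S M) T) (hia : MonAct.IsEquivariant a₀ a i)
    (aX : MonAct (AMonS S M) X) (aY : MonAct (AMonS S M) Y) (f : X ⟶ Y) (hf : MonAct.IsEquivariant aX aY f)
    [Smooth f.left] (s : T₀ ⟶ X) (hs : MonAct.IsEquivariant a₀ aX s) (y : T ⟶ Y) (hy : MonAct.IsEquivariant a aY y)
    (hsy : i ≫ y = s ≫ f) : ∃ l : T ⟶ X, MonAct.IsEquivariant a aX l ∧ i ≫ l = s ∧ l ≫ f = y := by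
  obtain ⟨l₀, hl1, hl2⟩ := exists_lift_of_smooth i hi f s y hsy
  rw [MonAct.isEquivariant_iff] at hia hf hs hy
  let G := AMonS S M
  let h : AMonS S M ⊗ T ⟶ X :=
    lift (fst _ _ ≫ negM S M) (lift (fst _ _) (snd _ _) ≫ a.act ≫ l₀) ≫ aX.act
  have hh : ∀ {W : Over S} (g : W ⟶ AMonS S M) (w : W ⟶ T),
      lift g w ≫ h = lift (g ≫ negM S M) (lift g w ≫ a.act ≫ l₀) ≫ aX.act := by
    intro W g w
    simp only [h, comp_lift_assoc, comp_lift, lift_fst, lift_snd, lift_fst_assoc]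
  have hc : (AMonS S M ◁ i) ≫ h = snd (AMonS S M) T₀ ≫ s := by
    refine Magnet.hom_ext_lift₂ fun W g w => ?_
    rw [lift_whiskerLeft_assoc, hh, lift_snd_assoc, ← Category.assoc (lift g (w ≫ i)), ← hia]
    simp only [Category.assoc, hl1]
    rw [hs, ← MonAct.lift_mul_act, negM_mul, MonAct.lift_one_act]
  obtain ⟨D⟩ := nonempty_data (M := M) i hi
  let l := D.avg h s hc
  have hil : i ≫ l = s := D.restrict_avg h s hc
  have hlf : l ≫ f = y := by
    have hc' : (AMonS S M ◁ i) ≫ snd _ _ ≫ y = snd _ T₀ ≫ i ≫ y := whiskerLeft_snd_assoc _ _ _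
    refine (D.avg_comp f h s hc _ _ hc' ?_ hsy.symm).trans (D.avg_snd y hc')
    refine Magnet.hom_ext_lift₂ fun W g w => ?_
    rw [reassoc_of% hh, lift_snd_assoc, hf]
    simp only [Category.assoc, hl2]
    rw [hy, ← MonAct.lift_mul_act, negM_mul, MonAct.lift_one_act]
  refine ⟨l, ?_, hil, hlf⟩
  haveI := isAffine_tensor M T
  haveI := isAffine_tensor M T₀
  haveI : IsClosedImmersion (AMonS S M ◁ i).left :=
    MorphismProperty.of_isPullback (MagnetContract.isPullback_whiskerLeft (AMonS S M) i) ‹IsClosedImmersion i.left›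
  obtain ⟨D'⟩ := nonempty_data (M := M) (AMonS S M ◁ i) (sq_zero_whisker M i hi)
  let i' := AMonS S M ◁ i
  have hcs : ∀ {W : Over S} (g : W ⟶ AMonS S M) (w : W ⟶ T₀), lift g (w ≫ i) ≫ h = w ≫ s := fun g w => by
    have := congrArg (fun t => lift g w ≫ t) hc
    simpa only [lift_whiskerLeft_assoc, lift_snd_assoc] using this
  have sq1 : i' ≫ a.act = a₀.act ≫ i := Magnet.hom_ext_lift₂ fun W g w => by
    rw [lift_whiskerLeft_assoc]
    exact (hia W g w).symm
  let h1 : AMonS S M ⊗ (AMonS S M ⊗ T) ⟶ X := (AMonS S M ◁ a.act) ≫ h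
  have hc1 : (AMonS S M ◁ i') ≫ h1 = snd _ _ ≫ a₀.act ≫ s := by
    refine Magnet.hom_ext_lift₂ fun W g w => ?_
    rw [lift_whiskerLeft_assoc, lift_whiskerLeft_assoc, Category.assoc w i' a.act, sq1, ← Category.assoc w, hcs,
      lift_snd_assoc, Category.assoc]
  let h2 : AMonS S M ⊗ (AMonS S M ⊗ T) ⟶ X := (AMonS S M ◁ snd (AMonS S M) T) ≫ h
  have hc2 : (AMonS S M ◁ i') ≫ h2 = snd _ _ ≫ snd _ _ ≫ s := by
    refine Magnet.hom_ext_lift₂ fun W g w => ?_
    rw [lift_whiskerLeft_assoc, lift_whiskerLeft_assoc, Category.assoc w i' (snd _ _), whiskerLeft_snd,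
      ← Category.assoc w, hcs, lift_snd_assoc, Category.assoc]
  let H : AMonS S M ⊗ (AMonS S M ⊗ T) ⟶ AMonS S M ⊗ X := lift (snd _ _ ≫ fst _ _) h2
  let xH : AMonS S M ⊗ T₀ ⟶ AMonS S M ⊗ X := lift (fst _ _) (snd _ _ ≫ s)
  have hcH : (AMonS S M ◁ i') ≫ H = snd _ _ ≫ xH := by
    refine CartesianMonoidalCategory.hom_ext _ _ ?_ ?_
    · simp only [H, xH, Category.assoc, lift_fst, whiskerLeft_snd_assoc, i', whiskerLeft_fst]
    · simp only [H, xH, Category.assoc, lift_snd, hc2]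
  have hA : D'.avg H xH hcH = AMonS S M ◁ l := by
    refine CartesianMonoidalCategory.hom_ext _ _ ?_ ?_
    · have hcf : (AMonS S M ◁ i') ≫ snd _ _ ≫ fst (AMonS S M) T = snd _ _ ≫ i' ≫ fst (AMonS S M) T :=
        whiskerLeft_snd_assoc _ _ _
      rw [whiskerLeft_fst, D'.avg_comp _ H xH hcH _ _ hcf (lift_fst _ _)
        (by simp only [xH, lift_fst, i', whiskerLeft_fst]), D'.avg_snd]
    · rw [whiskerLeft_snd, D.avg_natural D' (snd _ _) (snd _ _) (whiskerLeft_snd _ _) h s hc h2 _ hc2 rfl rfl,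
        D'.avg_comp _ H xH hcH h2 _ hc2 (lift_snd _ _) (lift_snd _ _)]
  have hck : (AMonS S M ◁ i') ≫ H ≫ aX.act = snd _ _ ≫ a₀.act ≫ s := by
    rw [reassoc_of% hcH]
    refine congrArg (snd _ _ ≫ ·) (Magnet.hom_ext_lift₂ fun W g w => ?_)
    simp only [xH, comp_lift_assoc, lift_fst, lift_snd_assoc]
    exact (hs W g w).symm
  have key : a.act ≫ l = (AMonS S M ◁ l) ≫ aX.act := by
    rw [D.avg_natural D' a₀.act a.act sq1 h s hc h1 _ hc1 rfl rfl, ← hA,
      D'.avg_comp aX.act H xH hcH (H ≫ aX.act) (a₀.act ≫ s) hck rfl (Magnet.hom_ext_lift₂ fun W g w => by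
        simp only [xH, comp_lift_assoc, lift_fst, lift_snd_assoc]
        exact (hs W g w).symm)]
    refine (D'.avg_transl (fst (AMonS S M) T) (H ≫ aX.act) _ hck h1 hc1 ?_).symm
    refine Magnet.hom_ext_lift₂ fun W g z => ?_
    obtain ⟨k, w, rfl⟩ : ∃ k w, lift k w = z := ⟨z ≫ fst _ _, z ≫ snd _ _, lift_comp_fst_snd z⟩
    have htr : lift g (lift k w) ≫ lift (fst _ _ * (snd _ _ ≫ fst (AMonS S M) T)) (snd _ _) = lift (g * k) (lift k w) := by
      simp only [comp_lift, MonObj.comp_mul, lift_fst, lift_snd, lift_snd_assoc, lift_fst]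
    rw [reassoc_of% htr]
    simp only [H, h1, h2, comp_lift_assoc, comp_lift, MonObj.comp_mul, lift_fst, lift_snd_assoc, lift_fst_assoc,
      lift_whiskerLeft_assoc, lift_snd, hh]
    rw [← MonAct.lift_mul_act, mul_negM]
    refine congrArg (fun t => lift (g ≫ negM S M) t ≫ aX.act) ?_
    rw [MonAct.lift_mul_act_assoc]
  rw [MonAct.isEquivariant_iff]
  intro W g w
  rw [key, lift_whiskerLeft_assoc]

end Groth.Agent.MagnetLift
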