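import Groth.Agent.MagnetLift.Attr
import Groth.Agent.S9208
import Mathlib

/-!
# Maps of attractors are locally of finite presentation
-/

set_option autoImplicit false
set_option backward.isDefEq.respectTransparency false
set_option backward.isDefEq.respectTransparency.types false
set_option linter.style.haveILetI false
set_option maxHeartbeats 1000000
set_option synthInstance.maxHeartbeats 100000

universe u v

open CategoryTheory CategoryTheory.Limits MonoidalCategory CartesianMonoidalCategory MonObj AlgebraicGeometry Opposite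
open Magnet

namespace Groth.Agent.MagnetLift

variable {S : Scheme.{u}}

/-- Multiplying a cofiltered limit by a fixed object gives a limit. -/
theorem nonempty_isLimit_tensor {I : Type u} [Category.{u} I] [IsCofiltered I] (D : I ⥤ Over S) (c : Cone D)
    (hc : IsLimit ((Over.forget S).mapCone c)) (A : Over S) :
    Nonempty (IsLimit ((Over.forget S).mapCone ((tensorLeft A).mapCone c))) := by
  have hfst : ∀ (s : Cone ((D ⋙ tensorLeft A) ⋙ Over.forget S)) (i k : I),
      s.π.app i ≫ (fst A (D.obj i)).left = s.π.app k ≫ (fst A (D.obj k)).left := by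
    intro s i k
    have hf : ∀ {i k : I} (f : i ⟶ k), s.π.app i ≫ (fst A (D.obj i)).left = s.π.app k ≫ (fst A (D.obj k)).left := by
      intro i k f
      rw [← s.w f, Category.assoc]
      show _ = s.π.app i ≫ (A ◁ D.map f).left ≫ _
      rw [← Over.comp_left, whiskerLeft_fst]
    exact (hf (IsCofiltered.minToLeft i k)).symm.trans (hf (IsCofiltered.minToRight i k))
  let sc : ∀ s : Cone ((D ⋙ tensorLeft A) ⋙ Over.forget S), Cone (D ⋙ Over.forget S) := fun s =>
    { pt := s.pt
      π :=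
        { app := fun i => s.π.app i ≫ (snd A (D.obj i)).left
          naturality := fun i k f => by
            show 𝟙 _ ≫ s.π.app k ≫ _ = (s.π.app i ≫ _) ≫ (D.map f).left
            rw [Category.id_comp, ← s.w f, Category.assoc, Category.assoc]
            show s.π.app i ≫ (A ◁ D.map f).left ≫ _ = _
            rw [← Over.comp_left, ← Over.comp_left, whiskerLeft_snd] } }
  obtain ⟨i₀⟩ := (IsCofiltered.nonempty (C := I))
  have hlift : ∀ s : Cone ((D ⋙ tensorLeft A) ⋙ Over.forget S),
      (s.π.app i₀ ≫ (fst A (D.obj i₀)).left) ≫ A.hom = hc.lift (sc s) ≫ c.pt.hom := by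
    intro s
    have e : hc.lift (sc s) ≫ (c.π.app i₀).left = s.π.app i₀ ≫ (snd A (D.obj i₀)).left := hc.fac (sc s) i₀
    have e2 : (c.π.app i₀).left ≫ (D.obj i₀).hom = c.pt.hom := Over.w _
    rw [← e2, reassoc_of% e, Category.assoc, Over.w, Over.w (snd A (D.obj i₀))]
  let l : ∀ s : Cone ((D ⋙ tensorLeft A) ⋙ Over.forget S), s.pt ⟶ (A ⊗ c.pt).left := fun s =>
    pullback.lift (s.π.app i₀ ≫ (fst A (D.obj i₀)).left) (hc.lift (sc s)) (hlift s)
  refine ⟨{ lift := l, fac := fun s i => ?_, uniq := fun s m hm => ?_ }⟩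
  · show l s ≫ (A ◁ c.π.app i).left = s.π.app i
    refine pullback.hom_ext ?_ ?_
    · show (l s ≫ (A ◁ c.π.app i).left) ≫ (fst A (D.obj i)).left = s.π.app i ≫ (fst A (D.obj i)).left
      rw [Category.assoc, ← Over.comp_left, whiskerLeft_fst]
      exact (pullback.lift_fst _ _ _).trans (hfst s i₀ i)
    · show (l s ≫ (A ◁ c.π.app i).left) ≫ (snd A (D.obj i)).left = s.π.app i ≫ (snd A (D.obj i)).left
      rw [Category.assoc, ← Over.comp_left, whiskerLeft_snd, Over.comp_left, ← Category.assoc]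
      exact (congrArg (· ≫ (c.π.app i).left) (pullback.lift_snd _ _ _)).trans (hc.fac (sc s) i)
  · have hm' : ∀ i, m ≫ (A ◁ c.π.app i).left = s.π.app i := hm
    refine pullback.hom_ext ?_ ?_
    · show m ≫ (fst A c.pt).left = l s ≫ (fst A c.pt).left
      rw [show l s ≫ (fst A c.pt).left = _ from pullback.lift_fst _ _ _, ← hm' i₀, Category.assoc, ← Over.comp_left, whiskerLeft_fst]
      rfl
    · show m ≫ (snd A c.pt).left = l s ≫ (snd A c.pt).left
      rw [show l s ≫ (snd A c.pt).left = _ from pullback.lift_snd _ _ _]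
      refine hc.hom_ext fun i => ?_
      rw [hc.fac]
      show (m ≫ (snd A c.pt).left) ≫ (c.π.app i).left = s.π.app i ≫ (snd A (D.obj i)).left
      rw [← hm' i, Category.assoc, Category.assoc, ← Over.comp_left, ← Over.comp_left, whiskerLeft_snd]
      rfl

variable {M : Type} [AddCommGroup M]

theorem locallyOfFinitePresentation_attr {N : AddSubmonoid M} {X Y : Over S} (aX : MonAct (AMonS S M) X)
    (aY : MonAct (AMonS S M) Y) (f : X ⟶ Y) (hf : MonAct.IsEquivariant aX aY f) [LocallyOfFinitePresentation f.left]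
    {ZX ZY : Over S} (eX : (attr aX N).RepresentableBy ZX) (eY : (attr aY N).RepresentableBy ZY) (j : ZX ⟶ ZY)
    (hj : ∀ (T : Over S) (z : T ⟶ ZX),
      eY.homEquiv (z ≫ j) = (MonAct.eqvHom.postcomp (subAct S M N) f hf).app (op T) (eX.homEquiv z)) :
    LocallyOfFinitePresentation j.left := by
  refine S9208.result j.left fun J _ _ _ D t c hc haff j₀ g hg => ?_
  haveI := haff
  let DS : Jᵒᵖ ⥤ Over S :=
    { obj := fun i => Over.mk (t.app i ≫ ZY.hom)
      map := fun {i k} f => Over.homMk (D.map f) (by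
        show D.map f ≫ t.app k ≫ ZY.hom = t.app i ≫ ZY.hom
        rw [← Category.assoc, t.naturality]
        simp)
      map_id := fun i => Over.OverMorphism.ext (D.map_id i)
      map_comp := fun f f' => Over.OverMorphism.ext (D.map_comp f f') }
  have hpt : ∀ i, c.π.app i ≫ t.app i = c.π.app j₀ ≫ t.app j₀ := by
    intro i
    have hf : ∀ {i k : Jᵒᵖ} (f : i ⟶ k), c.π.app i ≫ t.app i = c.π.app k ≫ t.app k := fun {i k} f => by
      rw [← c.w f, Category.assoc, t.naturality]
      simp
    exact (hf (IsCofiltered.minToLeft i j₀)).symm.trans (hf (IsCofiltered.minToRight i j₀))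
  let cS : Cone DS :=
    { pt := Over.mk (c.π.app j₀ ≫ t.app j₀ ≫ ZY.hom)
      π :=
        { app := fun i => Over.homMk (c.π.app i) (by
            show c.π.app i ≫ t.app i ≫ ZY.hom = c.π.app j₀ ≫ t.app j₀ ≫ ZY.hom
            rw [reassoc_of% (hpt i)])
          naturality := fun i k f => Over.OverMorphism.ext (by
            show 𝟙 _ ≫ c.π.app k = c.π.app i ≫ D.map f
            rw [Category.id_comp, c.w]) } }
  have hcS : IsLimit ((Over.forget S).mapCone cS) :=
    { lift := fun s => hc.lift ⟨s.pt, { app := fun i => s.π.app i, naturality := fun i k f => s.π.naturality f }⟩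
      fac := fun s i => hc.fac ⟨s.pt, { app := fun i => s.π.app i, naturality := fun i k f => s.π.naturality f }⟩ i
      uniq := fun s m hm => hc.uniq ⟨s.pt, { app := fun i => s.π.app i, naturality := fun i k f => s.π.naturality f }⟩ m hm }
  let z : cS.pt ⟶ ZX := Over.homMk g (by rw [← Over.w j, reassoc_of% hg]; rfl)
  let ty : ∀ i, DS.obj i ⟶ ZY := fun i => Over.homMk (t.app i) rfl
  have hty : ∀ {i k} (f : i ⟶ k), DS.map f ≫ ty k = ty i := fun {i k} f => Over.OverMorphism.ext (by
    show D.map f ≫ t.app k = t.app i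
    rw [t.naturality]
    simp)
  let y : ∀ i, (attr aY N).obj (op (DS.obj i)) := fun i => eY.homEquiv (ty i)
  have hy : ∀ {i k} (f : i ⟶ k), (AMonS S N ◁ DS.map f) ≫ (y k).1 = (y i).1 := fun {i k} f =>
    congrArg Subtype.val ((eY.homEquiv_comp (DS.map f) (ty k)).symm.trans (congrArg eY.homEquiv (hty f)))
  let x := eX.homEquiv z
  have hxy : ∀ i, x.1 ≫ f = (AMonS S N ◁ cS.π.app i) ≫ (y i).1 := fun i =>
    congrArg Subtype.val ((hj _ z).symm.trans ((congrArg eY.homEquiv (Over.OverMorphism.ext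
      (hg.trans (hpt i).symm) : z ≫ j = cS.π.app i ≫ ty i)).trans (eY.homEquiv_comp _ _)))
  have hTaff : ∀ i, IsAffine (DS.obj i).left := fun i => haff i
  let D' : Jᵒᵖ ⥤ Scheme.{u} := (DS ⋙ tensorLeft (AMonS S N)) ⋙ Over.forget S
  obtain ⟨hc'⟩ := nonempty_isLimit_tensor DS cS hcS (AMonS S N)
  have hD'aff : ∀ i, IsAffine (D'.obj i) := fun i => haveI := hTaff i; MagnetEtale.isAffine_tensor N (DS.obj i)
  haveI : ∀ {i k} (f : i ⟶ k), IsAffineHom (D'.map f) := fun {i k} f =>
    haveI := hD'aff i; haveI := hD'aff k; isAffineHom_of_isAffine _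
  haveI : ∀ i, CompactSpace (D'.obj i) := fun i => haveI := hD'aff i; inferInstance
  haveI : ∀ i, QuasiSeparatedSpace (D'.obj i) := fun i => haveI := hD'aff i; inferInstance
  let t' : D' ⟶ (Functor.const Jᵒᵖ).obj Y.left :=
    { app := fun i => (y i).1.left
      naturality := fun i k f => by
        show (AMonS S N ◁ DS.map f).left ≫ (y k).1.left = (y i).1.left ≫ 𝟙 _
        rw [Category.comp_id, ← Over.comp_left, hy] }
  obtain ⟨i, gi, hgi, hgi'⟩ := Scheme.exists_π_app_comp_eq_of_locallyOfFinitePresentation D' t' f.left _ hc'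
    x.1.left (by
      ext i
      exact (congrArg CommaMorphism.left (hxy i)).symm)
  let xi : AMonS S N ⊗ DS.obj i ⟶ X := Over.homMk gi (by rw [← Over.w f, reassoc_of% hgi']; exact Over.w (y i).1)
  have hxi : (AMonS S N ◁ cS.π.app i) ≫ xi = x.1 := Over.OverMorphism.ext hgi
  have hxif : xi ≫ f = (y i).1 := Over.OverMorphism.ext hgi'
  let aN : ∀ T : Over S, MonAct (AMonS S M) (AMonS S N ⊗ T) := fun T => (subAct S M N).prod (MonAct.trivial (AMonS S M) T)
  have hact : ∀ {T' T : Over S} (v : T' ⟶ T),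
      (AMonS S M ◁ (AMonS S N ◁ v)) ≫ (aN T).act = (aN T').act ≫ (AMonS S N ◁ v) := fun {T' T} v => by
    refine Magnet.hom_ext_lift₂ fun W g z => ?_
    rw [lift_whiskerLeft_assoc]
    exact ((MonAct.isEquivariant_iff _ _ _).1 (isEquivariant_whisker N v) W g z).symm
  let D'' : Jᵒᵖ ⥤ Scheme.{u} := ((DS ⋙ tensorLeft (AMonS S N)) ⋙ tensorLeft (AMonS S M)) ⋙ Over.forget S
  obtain ⟨hc''⟩ := nonempty_isLimit_tensor (DS ⋙ tensorLeft (AMonS S N)) ((tensorLeft (AMonS S N)).mapCone cS) hc' (AMonS S M)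
  have hD''aff : ∀ i, IsAffine (D''.obj i) := fun i => haveI : IsAffine (AMonS S N ⊗ DS.obj i).left := hD'aff i
    MagnetEtale.isAffine_tensor M (AMonS S N ⊗ DS.obj i)
  haveI : ∀ {i k} (f : i ⟶ k), IsAffineHom (D''.map f) := fun {i k} f =>
    haveI := hD''aff i; haveI := hD''aff k; isAffineHom_of_isAffine _
  haveI : ∀ i, CompactSpace (D''.obj i) := fun i => haveI := hD''aff i; inferInstance
  haveI : ∀ i, QuasiSeparatedSpace (D''.obj i) := fun i => haveI := hD''aff i; inferInstance
  let t'' : D'' ⟶ (Functor.const Jᵒᵖ).obj Y.left :=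
    { app := fun i => ((aN (DS.obj i)).act ≫ (y i).1).left
      naturality := fun i k f => by
        show (AMonS S M ◁ (AMonS S N ◁ DS.map f)).left ≫ _ = _ ≫ 𝟙 _
        rw [Category.comp_id, ← Over.comp_left, reassoc_of% (hact (DS.map f)), hy] }
  let u₁ := (aN (DS.obj i)).act ≫ xi
  let u₂ := (AMonS S M ◁ xi) ≫ aX.act
  have hu₁ : u₁ ≫ f = (aN (DS.obj i)).act ≫ (y i).1 := by simp only [u₁, Category.assoc, hxif]
  have hu₂ : u₂ ≫ f = (aN (DS.obj i)).act ≫ (y i).1 := by
    simp only [u₂, Category.assoc]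
    rw [show aX.act ≫ f = (AMonS S M ◁ f) ≫ aY.act from hf, ← whiskerLeft_comp_assoc, hxif]
    exact ((y i).2).symm
  have hlim : (AMonS S M ◁ (AMonS S N ◁ cS.π.app i)) ≫ u₁ = (AMonS S M ◁ (AMonS S N ◁ cS.π.app i)) ≫ u₂ := by
    simp only [u₁, u₂]
    rw [reassoc_of% (hact (cS.π.app i)), hxi, ← whiskerLeft_comp_assoc, hxi]
    exact x.2
  obtain ⟨k, φ, hk⟩ := Scheme.exists_hom_comp_eq_comp_of_locallyOfFiniteType D'' t'' f.left _ hc'' (i := i)
    u₁.left u₂.left (congrArg CommaMorphism.left hu₁).symm (congrArg CommaMorphism.left hu₂).symm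
    (congrArg CommaMorphism.left hlim)
  let xk : AMonS S N ⊗ DS.obj k ⟶ X := (AMonS S N ◁ DS.map φ) ≫ xi
  have hxk : MonAct.IsEquivariant (aN (DS.obj k)) aX xk := by
    have hk' : (AMonS S M ◁ (AMonS S N ◁ DS.map φ)) ≫ u₁ = (AMonS S M ◁ (AMonS S N ◁ DS.map φ)) ≫ u₂ :=
      Over.OverMorphism.ext hk
    simp only [u₁, u₂] at hk'
    rw [reassoc_of% (hact (DS.map φ)), ← whiskerLeft_comp_assoc] at hk'
    exact hk'
  refine ⟨k, (eX.homEquiv.symm ⟨xk, hxk⟩).left, ?_, ?_⟩
  · have e : eX.homEquiv.symm ⟨xk, hxk⟩ ≫ j = ty k := by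
      apply eY.homEquiv.injective
      rw [hj, Equiv.apply_symm_apply]
      refine Subtype.ext ?_
      show xk ≫ f = (y k).1
      rw [Category.assoc, hxif, hy]
    exact congrArg CommaMorphism.left e
  · have e : cS.π.app k ≫ eX.homEquiv.symm ⟨xk, hxk⟩ = z := by
      apply eX.homEquiv.injective
      rw [eX.homEquiv_comp, Equiv.apply_symm_apply]
      refine Subtype.ext ?_
      show (AMonS S N ◁ cS.π.app k) ≫ (AMonS S N ◁ DS.map φ) ≫ xi = x.1
      rw [← whiskerLeft_comp_assoc, cS.w, hxi]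
    exact congrArg CommaMorphism.left e

end Groth.Agent.MagnetLift
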